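import Cfsg.Agent.FT.BG14.T7

/-!
B & G, Lemmas 14.11, 14.12 and 14.13(a).
-/

set_option autoImplicit false

open Pointwise Cfsg Cfsg.Lib.Solv

namespace Cfsg.Lib.FT

variable {G : Type*} [Group G] [Finite G]

theorem card_dvd_relIndex_of_TI {E C Q : Subgroup G} (hQ : Q ≤ E) (hn : Q ≤ 𝐍 C) (h : C ⊓ Q = ⊥) :
    Nat.card Q ∣ C.relIndex E := by
  have h1 := cardSg (sup_le (inf_le_right : C ⊓ E ≤ E) hQ)
  rw [card_sup_of_disjoint_of_le_normalizer (normsI hn (normsG hQ))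
    (le_bot_iff.1 (h ▸ inf_le_inf_right _ inf_le_left)), ← card_inf_mul_relIndex C E] at h1
  exact Nat.dvd_of_mul_dvd_mul_left (cardG_gt0 _) h1

theorem conj_p1Elem_of_rank_le1 {H A B : Subgroup G} {r : ℕ} [Fact r.Prime]
    (ho : Odd (Nat.card H)) (hr : pRank r H ≤ 1) (hA : A ∈ Elem r 1 H) (hB : B ∈ Elem r 1 H) :
    ConjIn H A B := by
  obtain ⟨S, hS, hBS⟩ := Sylow_superset hB.1 (pnElem_pgroup hB)
  obtain ⟨g, hg, hAS⟩ := Sylow_Jsub hS hA.1 (pnElem_pgroup hA)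
  refine ⟨g, hg, (eq_subG_cyclic ((odd_Sylow_cyclic_iff hS ho).2 hr) hBS hAS).2 ?_⟩
  rw [card_conj_smul, hA.2.2, hB.2.2]

theorem Ftype_regular_tau13 (hG : IsMinSimpleOddOrder G) {M P : Subgroup G} (hM : MaxF M) {p : ℕ}
    (hp : p ∈ tau1 M ∨ p ∈ tau3 M) (hP : P ∈ Elem p 1 M) : sigmaCore M ⊓ 𝐂 P = ⊥ := by
  by_contra h
  exact hM.not_maxP ⟨hM.max, p, (mem_kappa_iff hG).2 ⟨hp, P, hP, h⟩⟩

/-- B & G, Lemma 14.11. -/
theorem primes_non_Fitting_Ftype (hG : IsMinSimpleOddOrder G) {M E Q : Subgroup G} (hM : MaxF M)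
    (hE : IsPiHallOf (sigma M)ᶜ E M) {q : ℕ} (hq : q.Prime) (hQ : Q ∈ Elem q 1 E)
    (hF : ¬ Q ≤ fittingOf E) :
    ∃ Mstar : Subgroup G, IsCoatom Mstar ∧
      ((q ∈ tau2 Mstar ∧ UniqMax (𝐂 Q) Mstar) ∨ (q ∈ kappa Mstar ∧ MaxP1 Mstar)) := by
  haveI : Fact q.Prime := ⟨hq⟩
  have hmax := hM.max
  have hq1 : q ∈ tau1 M := by
    rcases (partition_pi_sigma_compl hG hmax hE q).1 ⟨hq, pnElem_prime_dvd hQ one_pos⟩ with h | h | h
    · exact h
    · obtain ⟨A, hA, -⟩ := ex_tau2Elem hG hmax hE h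
      obtain ⟨⟨h1, h2⟩, -⟩ := tau2_compl_context hG hmax hE h hA
      exact absurd ((h2 ▸ hQ).1.trans (Fitting_max h1 (abelian_nil (pnElem_abelian hA)))) hF
    · obtain ⟨⟨E₁, h1⟩, E₃, h3⟩ := ex_tau13_compl hG hmax hE
      obtain ⟨E₂, hc⟩ := ex_tau2_compl hG hmax hE h1 h3
      obtain ⟨⟨-, hn⟩, -, ⟨-, hcyc⟩, -⟩ := sigma_compl_context hG hmax hc
      exact absurd (((sub_normal_Hall h3 hn.2 hQ.1).2 (pi_pgroup (pnElem_pgroup hQ) h)).trans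
        (Fitting_max hn (abelian_nil (cyclic_abelian hcyc)))) hF
  have hqE : IsPiSubgroup ({q}ᶜ : Set ℕ) ⁅E, E⁆ :=
    (p'groupE hq).2 ((tau1E hG hmax hE q).1 hq1).2.2
  have hab := der_mmax_compl_abelian hG hmax hE
  have hreg := Ftype_regular_tau13 hG hM (Or.inl hq1) (pnElemS hE.1 hQ)
  have hnQ : Q ≤ 𝐍 ⁅E, E⁆ := hQ.1.trans (der_normal E).2
  have hne : ⁅⁅E, E⁆, Q⁆ ≠ ⊥ := fun h => hF (le_sup_right.trans (Fitting_max
    (sub_der1_normal le_sup_left (sup_le (der_sub E) hQ.1))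
    (abelian_nil (abelianY hab (pnElem_abelian hQ) (centsC.1 (commG1P.1 h))))))
  obtain ⟨hc, -, -⟩ := commG_sigma'_1Elem_cyclic hG hmax ((der_sub E).trans hE.1)
    (pgroupS (der_sub E) hE.2.1) hq (tau1_sub_sigma' M hq1)
    (pnElem_of_le hQ (le_inf (hQ.1.trans hE.1) hnQ)) hreg hqE hab
  have hTI := coprime_abel_cent_TI hnQ (pgroup_coprime_p'group (pnElem_pgroup hQ) hqE).symm hab
  obtain ⟨p, hp, P, hP⟩ := exists_p1Elem_of_ne_bot hne
  haveI : Fact p.Prime := ⟨hp⟩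
  have hPE : P ∈ Elem p 1 E := pnElemS (comm_subG (der_sub E) hQ.1) hP
  have hp2 : p ∈ tau2 M := by
    have h13 : ¬ (p ∈ tau1 M ∨ p ∈ tau3 M) := fun h => Msigma_neq1 hG hmax (by
      rw [← Ftype_regular_tau13 hG hM h (pnElemS hE.1 hPE),
        inf_eq_left.2 (centsC.1 (hP.1.trans hc))])
    have := (partition_pi_sigma_compl hG hmax hE p).1 ⟨hp, pnElem_prime_dvd hPE one_pos⟩
    tauto
  obtain ⟨A, hA, hAM⟩ := ex_tau2Elem hG hmax hE hp2
  obtain ⟨⟨hnA, hE1⟩, -⟩ := tau2_compl_context hG hmax hE hp2 hA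
  have hAQ : ¬ Q ≤ 𝐂 A := fun h => nt_pnElem hP one_pos
    (le_bot_iff.1 (hTI ▸ le_inf hP.1 ((hE1 ▸ hPE).1.trans (centsC.1 h))))
  obtain ⟨-, -, hA1, -⟩ := tau1_act_tau2 hG hmax hE hp2 hA hq1 hQ hreg
    fun h => hAQ (centsC.1 (commG1P.1 h))
  obtain ⟨L, hL, hN⟩ := mmax_exists_norm hG (nt_pnElem hA two_pos) (sub_mmax_proper hmax hAM.1)
  obtain ⟨h1, h2, -⟩ := primes_norm_tau2Elem hG hmax hE hp2 hA hL hN
  have hQL : Q ∈ Elem q 1 L := pnElemS (hnA.2.trans hN) hQ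
  have hCQ : sigmaCore L ⊓ 𝐂 Q ≠ ⊥ := subG1_contra (inf_le_inf_right _
    (sub_Msigma hG hL ((normG A).trans hN) (pi_pgroup (pnElem_pgroup hA) (h1 hp2).1)))
    (nt_pnElem hA1 one_pos)
  have hd : q ∣ (𝐂 A).relIndex E := by
    rw [← card_p1Elem_eq hQ]
    refine card_dvd_relIndex_of_TI hQ.1 (norms_cent (hQ.1.trans hnA.2)) ?_
    rw [inf_comm]
    exact prime_TIg (p1Elem_prime hQ) hAQ
  refine ⟨L, hL, ?_⟩
  rcases h2 q hq hd with h | h
  · have hκ := (mem_kappa_iff hG).2 ⟨Or.inl h, Q, hQL, hCQ⟩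
    have hP : MaxP L := ⟨hL, q, hκ⟩
    refine Or.inr ⟨hκ, hP.p1_or_p2.resolve_right fun h2 => (h1 hp2).2 ?_⟩
    obtain ⟨K, hK⟩ := ex_kappa_Hall hG hL
    rw [← ((Ptype_structure hG hP hK).2.2.2.2.2.2 h2).1]
    exact (h1 hp2).1
  · obtain ⟨F, hF, hQF⟩ := ex_sigma_compl hG hL hQL.1
      (pi_pgroup (pnElem_pgroup hQ) (tau2_sub_sigma' L h))
    obtain ⟨B, hB, -⟩ := ex_tau2Elem hG hL hF h
    exact Or.inl ⟨h, (tau2_compl_context hG hL hF h hB).2.2.1 Q (pnElem_of_le hQ hQF) hCQ⟩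

theorem P2type_cent_compl (hG : IsMinSimpleOddOrder G) {M U K : Subgroup G} (hM : MaxP2 M)
    (hUK : KappaCompl M U K) : U ≠ ⊥ ∧ sigmaCore M ⊓ 𝐂 U = ⊥ := by
  have hU1 : U ≠ ⊥ := fun h => ((trivg_kappa_compl hG hM.max hUK).1 h).not_maxP2 hM
  obtain ⟨p, hp, hd⟩ := exists_prime_dvd_card hU1
  haveI : Fact p.Prime := ⟨hp⟩
  obtain ⟨S, hS⟩ := Sylow_exists p U
  have hp' := hUK.hallU.2.1 p hp hd
  have h := (sigma'_kappa'_facts hG hM.max ⟨hp, hd.trans (cardSg hUK.hallU.1)⟩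
    (fun h => hp' (Or.inl h)) (fun h => hp' (Or.inr h)) (subHall_Sylow hUK.hallU hp' hS)).2.1
  exact ⟨hU1, le_bot_iff.1 (h ▸ inf_le_inf_left _ (centS ((Ohm_sub p S).trans hS.1)))⟩

/-- B & G, Lemma 14.12. -/
theorem P2type_signalizer (hG : IsMinSimpleOddOrder G) {M Mstar U K R H : Subgroup G}
    (hM : MaxP2 M) (hUK : KappaCompl M U K) (hMstar : IsCoatom Mstar) (hC : 𝐂 K ≤ Mstar)
    {r : ℕ} (hr : r.Prime) (hR : IsSylowOf r R U) (hH : IsCoatom H) (hN : 𝐍 R ≤ H) :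
    MaxF H ∧ U ≤ sigmaCore H ∧ U ⊔ K = M ⊓ H ∧ ¬ H ⊓ 𝐍 U ≤ M ∧ K ≤ fittingOf (H ⊓ Mstar) ∧
      IsPiHallOf (sigma H)ᶜ (H ⊓ Mstar) H := by
  haveI : Fact r.Prime := ⟨hr⟩
  have hmax := hM.max
  have hK := hUK.hallK
  have hK1 : K ≠ ⊥ := (nontriv_kappa hmax hK).2 hM.maxP
  obtain ⟨-, hs, hMs, -, hreg, hab⟩ := kappa_compl_context hG hmax hUK
  have hab := hab hK1
  obtain ⟨hU1, hCU⟩ := P2type_cent_compl hG hM hUK
  have hqK := ((Ptype_structure hG hM.maxP hK).2.2.2.2.2.2 hM).2.1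
  obtain ⟨q, hq⟩ : ∃ q, Nat.card K = q := ⟨_, rfl⟩
  haveI : Fact q.Prime := ⟨hq ▸ hqK⟩
  have hKq : IsPGroup q K := isPGroup_of_card_prime hq
  obtain ⟨L, hL, hML, hu, ⟨hKs, -⟩, ⟨hKss, -⟩, ⟨hcyc, hMI, -⟩, -, -, htr, -⟩ :=
    Ptype_embedding hG hM.maxP hK
  have hu := hu K le_rfl hqK
  obtain rfl : Mstar = L := hu.eq hMstar hC
  have hKL : K ≤ sigmaCore Mstar := hKss ▸ inf_le_left
  have hqL : q ∈ sigma Mstar := mem_of_pgroup_of_ne_bot hKq hK1 (pgroupS hKL (Msigma_pgroup _))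
  have hTI := (Ptype_structure hG hL hKs).2.2.2.1.1
  rw [hKss] at hTI
  have hTI' : ∀ g : G, K ≤ g •ᶜ Mstar → g ∈ Mstar := fun g hg => by
    by_contra h
    exact hK1 (by rw [← hTI g h, inf_eq_left.2 hg])
  have hR1 : R ≠ ⊥ := fun h => hH.1 (top_le_iff.1 (by rw [h, norm_bot] at hN; exact hN))
  have hrU := hUK.hallU.2.1 r hr ((pgroup_dvd_card (Sylow_pgroup hR) hR1).trans (cardSg hR.1))
  have hUKH : U ⊔ K ≤ H := by
    refine le_trans ?_ hN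
    rw [nilpotent_Hall_pcore (abelian_nil hab) hR]
    exact norms_pcore _ hs.norm_left
  have hUH : U ≤ H := le_sup_left.trans hUKH
  have hKH : K ≤ H := le_sup_right.trans hUKH
  have hMH : ¬ ConjIn ⊤ M H := by
    rintro ⟨g, -, rfl⟩
    have hRM := subHall_Sylow hUK.hallU hrU hR
    refine hrU (Or.inl ?_)
    rw [← sigmaJ g]
    exact mem_sigma_of_Sylow hH.1 hr (pHall_of_card ((pHallJ2 g).2 hRM) (hR.1.trans hUH)
      (card_conj_smul g R).symm) hN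
  have hLH : ¬ ConjIn ⊤ Mstar H := by
    rintro ⟨g, -, rfl⟩
    rw [conjGid (hTI' g hKH)] at hUKH
    have h1 : U ⊔ K ≤ K ⊔ sigmaCore M ⊓ 𝐂 K := hMI ▸ le_inf hMs.le_right hUKH
    have h2 : U ≤ 𝐂 K := centSS (le_sup_right.trans h1) (le_sup_left.trans h1)
      (abelian_le_cent (cyclic_abelian hcyc))
    exact hU1 (by rw [← hreg.cent le_rfl hK1, inf_eq_left.2 h2])
  have hF : MaxF H := (maxF_iff_not_maxP hH).2 fun h => (htr H h).elim hMH hLH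
  have hdL := sigma_partition hG hMstar hH hLH
  have hdM := sigma_partition hG hmax hH hMH
  have hqH : q ∉ sigma H := Set.disjoint_left.1 hdL hqL
  obtain ⟨D, hD, hKD⟩ := ex_sigma_compl hG hH hKH (pi_pgroup hKq hqH)
  have hKE : K ∈ Elem q 1 D := p1ElemE.2 ⟨hKD, hq⟩
  have hKF : K ≤ fittingOf D := by
    by_contra h
    obtain ⟨L, hL', ⟨h1, h2⟩ | ⟨h1, h2⟩⟩ := primes_non_Fitting_Ftype hG hF hD Fact.out hKE h
    · rw [hu.unique h2] at h1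
      exact tau2_sub_sigma' _ h1 hqL
    · rcases htr L h2.maxP with ⟨g, -, rfl⟩ | ⟨g, -, rfl⟩
      · exact ((P1typeJ g M).1 h2).not_maxP2 hM
      · rw [kappaJ] at h1
        exact kappa_sigma' _ h1 hqL
  have hKO : K ≤ piCoreOf {q} D := sub_Fitting_pcore hKF (pgroup_iff.2 hKq)
  have hHs := sdprod_sigma hG hH hD
  have hUσ : U ≤ sigmaCore H := by
    have hnO : H ≤ 𝐍 (sigmaCore H ⊔ piCoreOf {q} D) :=
      hHs.sup.ge.trans (sup_le (normsG le_sup_left) (normsY hHs.norm (pcore_normal _ D).2))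
    have hqκ : q ∈ kappa M := mem_of_pgroup_of_ne_bot hKq hK1 hK.2.1
    refine le_of_le_sup_of_coprime ((pcore_sub {q} D).trans hHs.norm) ?_
      (p'nat_coprime (pi'_p'group hUK.kappa'U hqκ) (pcore_pgroup {q} D))
    rw [← (IsFrob.mk hs hU1 hK1 hreg).commg_eq]
    exact (commgSS hUH (hKO.trans le_sup_right)).trans (commg_subr.2 hnO)
  have hTIσ : sigmaCore M ⊓ sigmaCore H = ⊥ := pcore_TI hdM M H
  have hMH' : U ⊔ K = M ⊓ H := by
    refine (hMs.modl hUKH).eq_right_of_left_eq_bot (le_bot_iff.1 (hCU ▸ le_inf inf_le_left ?_))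
    rw [← commG1P, eq_bot_iff, ← hTIσ]
    exact le_inf ((commgSS inf_le_left le_rfl).trans
        (commg_subl.2 (le_sup_left.trans hMs.norm)))
      ((commgSS inf_le_right hUσ).trans (commg_subr.2 (Msigma_normal H).2))
  have hDL : D ≤ Mstar := fun g hg => by
    have hO : piCoreOf {q} D ≤ Mstar := le_trans (centSS hKO le_rfl (abelian_le_cent
      (sigma'_nil_abelian hG hH ((pcore_sub _ D).trans hD.1) (pgroupS (pcore_sub _ D) hD.2.1)
        (pgroup_nil (pcore_isPGroup q D))))) hC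
    refine hTI' g (hKO.trans ?_)
    rw [← normP.1 ((pcore_normal {q} D).2 hg)]
    exact (conjSg g).2 hO
  have hCK : sigmaCore H ⊓ 𝐂 K = ⊥ := by
    rcases (partition_pi_sigma_compl hG hH hD q).1 ⟨Fact.out, pnElem_prime_dvd hKE one_pos⟩
      with h | h | h
    · exact Ftype_regular_tau13 hG hF (Or.inl h) (pnElemS hD.1 hKE)
    · by_contra hne
      obtain ⟨B, hB, -⟩ := ex_tau2Elem hG hH hD h
      rw [hu.unique ((tau2_compl_context hG hH hD h hB).2.2.1 K hKE hne)] at hqH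
      exact hqH hqL
    · exact Ftype_regular_tau13 hG hF (Or.inr h) (pnElemS hD.1 hKE)
  have hDe : D = H ⊓ Mstar := by
    refine (hHs.modl hDL).eq_right_of_left_eq_bot (le_bot_iff.1 (hCK ▸ le_inf inf_le_left ?_))
    rw [← commG1P, eq_bot_iff, ← pcore_TI hdL Mstar H]
    exact le_inf ((commgSS inf_le_right hKL).trans (commg_subr.2 (Msigma_normal Mstar).2))
      ((commgSS inf_le_left le_rfl).trans (commg_subl.2 (hKH.trans (Msigma_normal H).2)))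
  refine ⟨hF, hUσ, hMH', fun h => hMH ?_, hDe ▸ hKF, hDe ▸ hD⟩
  have hUe : U = sigmaCore H := by
    refine nilpotent_sub_norm (notP1type_Msigma_nil hG (Or.inl hF)) hUσ ?_
    have h1 : sigmaCore H ⊓ 𝐍 U ≤ U ⊔ K := by
      rw [hMH']
      exact le_inf ((inf_le_inf_right _ (Msigma_normal H).1).trans h)
        (inf_le_left.trans (Msigma_normal H).1)
    exact hs.le_left_of_coprime h1 (coprimeSg inf_le_left
      (pnat_coprime (Msigma_pgroup H) (pi_pgroup hKq hqH)))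
  rw [eq_mmax hH hmax ((le_inf le_rfl (hUe ▸ (Msigma_normal H).2)).trans h)]
  exact ConjIn.refl _ _

/-- B & G, Lemma 14.13(a). -/
theorem non_disjoint_signalizer_Frobenius (hG : IsMinSimpleOddOrder G) {x : G} {M : Subgroup G}
    (hx : Ell1 x) (hn : (sigmaMmax x).Nontrivial) (hM : M ∈ sigmaMmax x)
    (h : ¬ IsPiSubgroup (sigma (signalizerBase x))ᶜ M) :
    MaxF M ∧ tau2 M = ∅ ∧
      ∀ E : Subgroup G, IsPiHallOf (sigma M)ᶜ E M → IsFrob M (sigmaCore M) E := by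
  have hmax := hM.1
  have hdis := sigma_disjoint_signalizerBase hG hx.1 hn hM
  obtain ⟨hu, -, hx2, -, h4⟩ := FT_signalizer_context' hG hx hn
  obtain ⟨-, h2σ, hβ, -⟩ := h4 M hM
  set N := signalizerBase x
  have hN := hu.mmax
  obtain ⟨q, hq, hqM, hqN⟩ : ∃ q : ℕ, q.Prime ∧ q ∣ Nat.card M ∧ q ∈ sigma N := by
    by_contra hc
    push Not at hc
    exact h hc
  haveI : Fact q.Prime := ⟨hq⟩
  have hqβ : q ∈ beta N := hβ ⟨⟨hq, hqM⟩, hqN⟩
  have hqσ : q ∉ sigma M := Set.disjoint_right.1 hdis hqN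
  obtain ⟨Q, hQ⟩ := p1Elem_exists hqM
  have hQ1 : Q ≠ ⊥ := nt_pnElem hQ one_pos
  obtain ⟨g, huQ⟩ : ∃ g : G, UniqMax (𝐂 Q) (g •ᶜ N) := by
    obtain ⟨g, hg⟩ := (sigma_Jsub hG hN (pi_pgroup (pnElem_pgroup hQ) hqN) hQ1).1
    refine ⟨g⁻¹, (cent_der_sigma_uniq hG ((mmaxJ _).2 hN) hq (pnElem_of_le hQ ?_)
      (Or.inl (by rwa [betaJ]))).1⟩
    exact conj_smul_le_iff_le_conj_inv_smul.1 (hg.trans (Msigma_normal N).1)
  obtain ⟨p, hp, hd, -⟩ := exists_constt_ne_one hx.1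
  haveI : Fact p.Prime := ⟨hp⟩
  have hp2 := hx2 p hp hd
  have hF : MaxF M := by
    refine (maxF_iff_not_maxP hmax).2 fun hP => ?_
    rcases hP.p1_or_p2 with h1 | h2
    · have hκ : q ∈ kappa M := (h1.2 q hq hqM).resolve_left hqσ
      obtain ⟨K, hK, hQK⟩ := Hall_superset (mmax_sol hG hmax) hQ.1 (pi_pgroup (pnElem_pgroup hQ) hκ)
      obtain ⟨L, -, -, huL, ⟨-, hKs⟩, -, ⟨hcyc, -⟩, -⟩ := Ptype_embedding hG hP hK
      have h3 := cyclic_p_rank_le1 (p := p) (cyclicS le_sup_right hcyc)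
      rw [p_rank_Hall hKs (h2σ hp2), huQ.unique (huL Q hQK (p1Elem_prime hQ)), p_rankJ,
        (mem_tau2_iff.1 hp2).2.2] at h3
      omega
    · obtain ⟨K, hK⟩ := ex_kappa_Hall hG hmax
      have h3 := h2σ hp2
      rw [((Ptype_structure hG hP hK).2.2.2.2.2.2 h2).1] at h3
      exact (tau2_not_beta hG hN hp2).1 h3.2
  have h2 : tau2 M = ∅ := by
    refine Set.eq_empty_of_forall_notMem fun r hr2 => ?_
    have hr := (mem_tau2_iff.1 hr2).1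
    haveI : Fact r.Prime := ⟨hr⟩
    have hrN : pRank r N ≤ 1 := by
      by_contra hc
      obtain ⟨B, hB⟩ := (p_rank_geP (p := r) (n := 2) (H := N)).1 (by omega)
      refine tau2_sub_sigma' M hr2 (h2σ (sigma'2Elem_tau2' hG hN hr (fun hs => ?_) hB))
      exact (tau2_not_beta hG hmax hr2).1 (hβ ⟨tau2_sub_pi M hr2, hs⟩).2
    obtain ⟨E, hE, hQE⟩ := ex_sigma_compl hG hmax hQ.1 (pi_pgroup (pnElem_pgroup hQ) hqσ)
    obtain ⟨A, hA, -⟩ := ex_tau2Elem hG hmax hE hr2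
    have hAQ : ¬ Q ≤ 𝐂 A := fun hc => by
      have h3 := le_p_rank_of_pnElem (pnElem_of_le hA ((centsC.1 hc).trans huQ.le))
      rw [p_rankJ] at h3
      omega
    have hnA := (tau2_compl_context hG hmax hE hr2 hA).1.1
    have hq1 : q ∈ tau1 M := by
      refine tau1_cent_tau2Elem_factor hG hmax hE hr2 hA q hq ?_
      rw [← card_p1Elem_eq hQ]
      refine card_dvd_relIndex_of_TI hQE (norms_cent (hQE.trans hnA.2)) ?_
      rw [inf_comm]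
      exact prime_TIg (p1Elem_prime hQ) hAQ
    obtain ⟨⟨hA0, hA0e, -⟩, hnc, hA1, -⟩ := tau1_act_tau2 hG hmax hE hr2 hA hq1
      (pnElem_of_le hQ hQE) (Ftype_regular_tau13 hG hF (Or.inl hq1) hQ)
      fun h => hAQ (centsC.1 (commG1P.1 h))
    have h3 : ⁅A, Q⁆ ∈ Elem r 1 N :=
      pnElem_of_le hA0 (hA0e ▸ inf_le_right.trans ((cent_le_cent1 hM.2).trans hu.le))
    have h4 : g⁻¹ •ᶜ (A ⊓ 𝐂 Q) ∈ Elem r 1 N := by
      rw [← pnElemJ g, conj_smul_conj_inv_smul]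
      exact pnElem_of_le hA1 (inf_le_right.trans huQ.le)
    exact hnc ((ConjIn.of_conj (Subgroup.mem_top g⁻¹) _).trans
      ((conj_p1Elem_of_rank_le1 (mFT_odd hG N) hrN h4 h3).mono le_top))
  refine ⟨hF, h2, fun E hE => ⟨sdprod_sigma hG hmax hE, Msigma_neq1 hG hmax, fun h => ?_,
    fun y hy hy1 => ?_⟩⟩
  · rw [h] at hE
    exact mmax_not_sigma_group hG hmax (by simpa using p'group_of_Hall_bot hE)
  · obtain ⟨r, hr, P, hP⟩ := exists_p1Elem_of_ne_bot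
      (H := Subgroup.zpowers y) fun h => hy1 (Subgroup.zpowers_eq_bot.1 h)
    have hPE : P ∈ Elem r 1 E := pnElemS (Subgroup.zpowers_le.2 hy) hP
    have h13 : r ∈ tau1 M ∨ r ∈ tau3 M := by
      have := (partition_pi_sigma_compl hG hmax hE r).1 ⟨hr, pnElem_prime_dvd hPE one_pos⟩
      rw [h2] at this
      simpa using this
    exact le_bot_iff.1 (Ftype_regular_tau13 hG hF h13 (pnElemS hE.1 hPE) ▸
      inf_le_inf_left _ (cent_zpowers y ▸ centS hP.1))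

end Cfsg.Lib.FT
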