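import Cfsg.Agent.FT.BG14.T6

/-!
B & G, Theorem 14.7, first part: the family of the maximal subgroups of type `P` that share the
subgroup `Z = K × K*`.
-/

set_option autoImplicit false

open Pointwise Cfsg Cfsg.Lib.Solv

namespace Cfsg.Lib.FT

variable {G : Type*} [Group G] [Finite G]

/-- `M ∈ 𝓜_P`, `K` is a Hall `κ(M)`-subgroup of `M`, `S = C_{M_σ}(K)` and `Z = K S` -/
structure T7Pair (M K S Z : Subgroup G) : Prop where
  maxP : MaxP M
  hall : IsPiHallOf (kappa M) K M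
  star : sigmaCore M ⊓ 𝐂 K = S
  sup : K ⊔ S = Z

namespace T7Pair

variable {M K S Z L KL SL ZL X Y : Subgroup G} {x y g : G}

omit [Finite G] in
theorem mk' (hM : MaxP M) (hK : IsPiHallOf (kappa M) K M) :
    T7Pair M K (sigmaCore M ⊓ 𝐂 K) (K ⊔ sigmaCore M ⊓ 𝐂 K) := ⟨hM, hK, rfl, rfl⟩

omit [Finite G] in
theorem max (h : T7Pair M K S Z) : IsCoatom M := h.maxP.max

theorem conj (h : T7Pair M K S Z) (g : G) : T7Pair (g •ᶜ M) (g •ᶜ K) (g •ᶜ S) (g •ᶜ Z) where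
  maxP := (PtypeJ g M).mpr h.maxP
  hall := by rw [kappaJ]; exact (pHallJ2 g).mpr h.hall
  star := by rw [MsigmaJ, centJ, ← conjIg, h.star]
  sup := by rw [← conjYg, h.sup]

theorem K_ne (h : T7Pair M K S Z) : K ≠ ⊥ := (nontriv_kappa h.max h.hall).mpr h.maxP

omit [Finite G] in
theorem S_le_sigma (h : T7Pair M K S Z) : S ≤ sigmaCore M := h.star ▸ inf_le_left

theorem S_sigma (h : T7Pair M K S Z) : IsPiSubgroup (sigma M) S :=
  pgroupS h.S_le_sigma (Msigma_pgroup M)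

theorem K_sigma' (h : T7Pair M K S Z) : IsPiSubgroup (sigma M)ᶜ K := kappa_Hall_sigma' h.hall

theorem coprime (h : T7Pair M K S Z) : (Nat.card K).Coprime (Nat.card S) :=
  p'nat_coprime h.K_sigma' h.S_sigma

variable (hG : IsMinSimpleOddOrder G)
include hG

theorem norm (h : T7Pair M K S Z) : M ⊓ 𝐍 K = Z := by
  have := (Ptype_structure hG h.maxP h.hall).2.1.1.sup
  rw [h.star, h.sup] at this
  exact this.symm

theorem dprod (h : T7Pair M K S Z) : DProd K S Z := by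
  have := (Ptype_structure hG h.maxP h.hall).2.1.1
  rwa [h.star, h.norm hG] at this

theorem le (h : T7Pair M K S Z) : Z ≤ M := h.norm hG ▸ inf_le_left

theorem S_ne (h : T7Pair M K S Z) : S ≠ ⊥ :=
  h.star ▸ (Ptype_structure hG h.maxP h.hall).2.2.1.1

theorem normX (h : T7Pair M K S Z) (hX : X ≤ K) (hp : (Nat.card X).Prime) : M ⊓ 𝐍 X = Z :=
  (((Ptype_structure hG h.maxP h.hall).2.1.2 X hX hp).1).trans (h.norm hG)

theorem uniq (h : T7Pair M K S Z) (hX : X ≤ S) (hp : (Nat.card X).Prime) : UniqMax (𝐂 X) M :=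
  (Ptype_structure hG h.maxP h.hall).2.2.1.2 X (h.star ▸ hX) hp

theorem hallS (h : T7Pair M K S Z) : IsPiHallOf (sigma M) S Z :=
  (h.dprod hG).sdprod.isPiHallOf_right_iff.mpr ⟨h.S_sigma, h.K_sigma'⟩

theorem hallK (h : T7Pair M K S Z) : IsPiHallOf (sigma M)ᶜ K Z :=
  (h.dprod hG).sdprod.isPiHallOf_left_iff.mpr ⟨h.K_sigma', by rw [compl_compl]; exact h.S_sigma⟩

theorem mem_S (h : T7Pair M K S Z) (hx : x ∈ Z) : x ∈ S ↔ PiElt (sigma M) x :=
  mem_normal_Hall (h.hallS hG) (h.dprod hG).normal_right.norm hx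

theorem mem_K (h : T7Pair M K S Z) (hx : x ∈ Z) : x ∈ K ↔ PiElt (sigma M)ᶜ x :=
  mem_normal_Hall (h.hallK hG) (h.dprod hG).normal_left.norm hx

theorem le_S (h : T7Pair M K S Z) (hX : X ≤ Z) : X ≤ S ↔ IsPiSubgroup (sigma M) X :=
  sub_normal_Hall (h.hallS hG) (h.dprod hG).normal_right.norm hX

theorem le_K (h : T7Pair M K S Z) (hX : X ≤ Z) : X ≤ K ↔ IsPiSubgroup (sigma M)ᶜ X :=
  sub_normal_Hall (h.hallK hG) (h.dprod hG).normal_left.norm hX

theorem S_eq (h : T7Pair M K S Z) : S = sigmaCore M ⊓ Z :=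
  le_antisymm (le_inf h.S_le_sigma (h.dprod hG).le_right)
    ((h.le_S hG inf_le_right).mpr (pgroupS inf_le_left (Msigma_pgroup M)))

/-- the maximal subgroups that share `Z` are not conjugate -/
theorem eq_of_sigma (h : T7Pair M K S Z) (h' : T7Pair L KL SL Z) (hσ : sigma M = sigma L) :
    M = L := by
  obtain ⟨X, hX, hp⟩ := exists_prime_subgroup_of_ne_bot (h.S_ne hG)
  have hX' : X ≤ SL := (h'.le_S hG (hX.trans (h.dprod hG).le_right)).mpr
    (hσ ▸ pgroupS hX h.S_sigma)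
  exact (h'.uniq hG hX' hp).unique (h.uniq hG hX hp)

theorem not_conj (h : T7Pair M K S Z) (h' : T7Pair L KL SL Z) (hne : M ≠ L) :
    ¬ ConjIn ⊤ M L := by
  rintro ⟨g, -, rfl⟩
  exact hne (h.eq_of_sigma hG h' (sigmaJ g M).symm)

theorem disjoint (h : T7Pair M K S Z) (h' : T7Pair L KL SL Z) (hne : M ≠ L) :
    Disjoint (sigma M) (sigma L) :=
  sigma_partition hG h.max h'.max (h.not_conj hG h' hne)

theorem S_le_K (h : T7Pair M K S Z) (h' : T7Pair L KL SL Z) (hne : M ≠ L) : SL ≤ K :=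
  (h.le_K hG (h'.dprod hG).le_right).mpr
    (sub_pgroup (h.disjoint hG h' hne).subset_compl_left h'.S_sigma)

/-- for `N(X) ≤ L`, `X ≤ K` of prime order, `S` is a `κ(L)`-group -/
theorem kappa_of_norm (h : T7Pair M K S Z) (hX : X ≤ K) (hp : (Nat.card X).Prime)
    (hL : IsCoatom L) (hN : 𝐍 X ≤ L) :
    X ≤ sigmaCore L ∧ L ≠ M ∧ Z ≤ L ∧ IsPiSubgroup (kappa L) S := by
  have : Fact (Nat.card X).Prime := ⟨hp⟩
  have hXL : X ≤ sigmaCore L := ((Ptype_structure hG h.maxP h.hall).2.1.2 X hX hp).2 L hL hN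
  have hκ : Nat.card X ∈ kappa M := pHall_pgroup h.hall _ hp (cardSg hX)
  have hnc : ¬ ConjIn ⊤ M L :=
    mmax_norm_notJ hG h.max hL (isPGroup_of_card_prime rfl) (hX.trans (pHall_sub h.hall)) hN
      (Or.inr (kappa_tau13 hκ))
  have hne : L ≠ M := fun e => hnc (e ▸ ConjIn.refl _ _)
  have hd := sigma_partition hG h.max hL hnc
  have hZL : Z ≤ L := ((h.normX hG hX hp).ge.trans inf_le_right).trans hN
  refine ⟨hXL, hne, hZL, fun q hq hqS => ?_⟩
  obtain ⟨y, hy, hyq⟩ := Cauchy hq hqS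
  obtain ⟨x, hx, hx1⟩ := trivgPn.mp (prime_ne_bot hp)
  have hy1 : y ≠ 1 := fun e => hq.one_lt.ne' (by rw [← hyq, e, orderOf_one])
  have hyσ : PiElt (sigma L)ᶜ y := sub_p_elt hd.subset_compl_right (mem_p_elt h.S_sigma hy)
  have hyx : y ∈ L ⊓ 𝐂₁ x :=
    ⟨hZL ((h.dprod hG).le_right hy), mem_cent1.mpr ((h.dprod hG).comm (hX hx) hy).symm⟩
  rcases pi_of_cent_sigma hG hL (hXL hx) hx1 hyx hy1 hyσ with h1 | h1
  · exact (p_elt_prime hyq hq).mp h1.1
  · have hY : UniqMax (𝐂 (Subgroup.zpowers y)) M :=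
      h.uniq hG ((Subgroup.zpowers_le_of_mem hy)) (by rw [Nat.card_zpowers, hyq]; exact hq)
    rw [cent_zpowers] at hY
    exact absurd (hY.unique h1.2.2) hne

theorem exists_of_norm (h : T7Pair M K S Z) (hX : X ≤ K) (hp : (Nat.card X).Prime)
    (hL : IsCoatom L) (hN : 𝐍 X ≤ L) :
    ∃ KL SL : Subgroup G, T7Pair L KL SL Z ∧ X ≤ SL ∧ L ≠ M := by
  obtain ⟨hXL, hne, hZL, hκ⟩ := h.kappa_of_norm hG hX hp hL hN
  have hd := h.dprod hG
  obtain ⟨KL, hKL, hSK⟩ := Hall_superset (mmax_sol hG hL) (hd.le_right.trans hZL) hκ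
  have hP : MaxP L := (nontriv_kappa hL hKL).mp (subG1_contra hSK (h.S_ne hG))
  have h' := T7Pair.mk' hP hKL
  set SL := sigmaCore L ⊓ 𝐂 KL with hSL
  set ZL := KL ⊔ SL with hZL'
  obtain ⟨Y, hY, hq⟩ := exists_prime_subgroup_of_ne_bot (h.S_ne hG)
  have hNY := h'.normX hG (hY.trans hSK) hq
  have h1 : Z ≤ ZL := by
    rw [← hNY]
    refine le_inf hZL ?_
    rw [← hd.sup]
    refine sup_le (cents_norm (hd.cent'.trans (centS hY))) ?_
    exact (hSK.trans (h'.dprod hG).le_left).trans (hNY.ge.trans inf_le_right)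
  have hXS : X ≤ SL :=
    (h'.le_S hG ((hX.trans hd.le_left).trans h1)).mpr (pgroupS hXL (Msigma_pgroup L))
  have hNM : 𝐍 Y ≤ M :=
    sub_uniq_mmax (h.uniq hG hY hq) (cent_sub Y)
      (mFT_norm_proper hG (prime_ne_bot hq) (mFT_cyclic_proper hG (prime_cyclic hq)))
  obtain ⟨-, -, hZM, hκ'⟩ := h'.kappa_of_norm hG (hY.trans hSK) hq h.max hNM
  have hd' := h'.dprod hG
  obtain ⟨K', hK', hSK'⟩ := Hall_superset (mmax_sol hG h.max) (hd'.le_right.trans hZM) hκ'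
  have h'' := T7Pair.mk' h.maxP hK'
  have hNX := h''.normX hG (hXS.trans hSK') hp
  have h2 : ZL ≤ Z := by
    rw [← h.normX hG hX hp]
    refine le_inf hZM ?_
    rw [← hd'.sup]
    refine sup_le (cents_norm (hd'.cent'.trans (centS hXS))) ?_
    exact (hSK'.trans (h''.dprod hG).le_left).trans (hNX.ge.trans inf_le_right)
  exact ⟨KL, SL, le_antisymm h2 h1 ▸ h', hXS, hne⟩

/-- every subgroup of prime order of `K` lies in `L_σ` for another member `L` of the family -/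
theorem exists_partner (h : T7Pair M K S Z) (hX : X ≤ K) (hp : (Nat.card X).Prime) :
    ∃ L KL SL : Subgroup G, T7Pair L KL SL Z ∧ X ≤ SL ∧ L ≠ M := by
  obtain ⟨L, hL, hN⟩ :=
    mmax_exists_norm hG (prime_ne_bot hp) (mFT_cyclic_proper hG (prime_cyclic hp))
  exact ⟨L, h.exists_of_norm hG hX hp hL hN⟩

theorem exists_ne (h : T7Pair M K S Z) :
    ∃ L KL SL : Subgroup G, T7Pair L KL SL Z ∧ L ≠ M := by
  obtain ⟨X, hX, hp⟩ := exists_prime_subgroup_of_ne_bot h.K_ne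
  obtain ⟨L, KL, SL, h', -, hne⟩ := h.exists_partner hG hX hp
  exact ⟨L, KL, SL, h', hne⟩

/-- the elements of `Z - (K ∪ S)` -/
theorem zhat_decomp (h : T7Pair M K S Z) (hx : x ∈ zhat K S) :
    ∃ k ∈ K, k ≠ 1 ∧ ∃ s ∈ S, s ≠ 1 ∧ k * s = x ∧ s * k = x ∧ constt (sigma M) x = s ∧
      constt (sigma M)ᶜ x = k := by
  obtain ⟨hxZ, hxK, hxS⟩ := mem_zhat.mp hx
  have hd := h.dprod hG
  obtain ⟨k, hk, s, hs, rfl⟩ := hd.exists_mul (h.sup ▸ hxZ)
  have hc : Commute k s := hd.comm hk hs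
  refine ⟨k, hk, ?_, s, hs, ?_, rfl, hc.eq.symm, ?_, ?_⟩
  · rintro rfl
    exact hxS (by simpa using hs)
  · rintro rfl
    exact hxK (by simpa using hk)
  · exact constt_mul_of_commute' hc (mem_p_elt h.K_sigma' hk) (mem_p_elt h.S_sigma hs)
  · exact constt_mul_of_commute hc (mem_p_elt h.K_sigma' hk)
      (by rw [compl_compl]; exact mem_p_elt h.S_sigma hs)

theorem mul_mem_zhat (h : T7Pair M K S Z) (hx : x ∈ K) (hx1 : x ≠ 1) (hy : y ∈ S) (hy1 : y ≠ 1) :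
    x * y ∈ zhat K S := by
  have hd := h.dprod hG
  refine mem_zhat.mpr ⟨Subgroup.mul_mem_sup hx hy, fun h1 => hy1 ?_, fun h1 => hx1 ?_⟩
  · exact hd.eq_one ((K.mul_mem_cancel_left hx).mp h1) hy
  · exact hd.eq_one hx ((S.mul_mem_cancel_right hy).mp h1)

theorem zhat_nonempty (h : T7Pair M K S Z) : (zhat K S).Nonempty := by
  obtain ⟨x, hx, hx1⟩ := trivgPn.mp h.K_ne
  obtain ⟨y, hy, hy1⟩ := trivgPn.mp (h.S_ne hG)
  exact ⟨_, h.mul_mem_zhat hG hx hx1 hy hy1⟩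

theorem zhat_not_mem (h : T7Pair M K S Z) (hx : x ∈ zhat K S) (hg : g ∉ M) : x ∉ g •ᶜ M := by
  intro hxg
  obtain ⟨k, -, -, s, hs, hs1, -, -, e, -⟩ := h.zhat_decomp hG hx
  have h1 := (Ptype_structure hG h.maxP h.hall).2.2.2.1.1 g hg
  rw [h.star] at h1
  have : s ∈ S ⊓ g •ᶜ M := ⟨hs, e ▸ groupX_constt _ hxg⟩
  rw [h1] at this
  exact hs1 this

theorem zhat_ti (h : T7Pair M K S Z) (hx : x ∈ zhat K S) (hg : g * x * g⁻¹ ∈ Z) : g ∈ Z := by
  have hgM : g ∈ M := by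
    by_contra hgM
    refine h.zhat_not_mem hG hx (g := g⁻¹) (fun h1 => hgM (M.inv_mem_iff.mp h1)) ?_
    rw [mem_conj_smul, inv_inv]
    exact h.le hG hg
  obtain ⟨k, hk, hk1, s, -, -, -, -, -, e⟩ := h.zhat_decomp hG hx
  rw [← h.norm hG]
  refine ⟨hgM, ?_⟩
  by_contra hgN
  have h1 := (Ptype_structure hG h.maxP h.hall).2.2.2.1.2 g hgM hgN
  have h2 : g * k * g⁻¹ ∈ K := by
    rw [← e, ← consttJ]
    exact (h.mem_K hG (groupX_constt _ hg)).mpr (p_elt_constt _ _)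
  have : g * k * g⁻¹ ∈ K ⊓ g •ᶜ K := ⟨h2, conj_mem_conj_smul g hk⟩
  rw [h1] at this
  exact hk1 (conjg_eq1.mp this)

theorem zhat_conj (h : T7Pair M K S Z) (hx : x ∈ zhat K S) (hg : g ∈ Z) :
    g * x * g⁻¹ ∈ zhat K S := by
  have hd := h.dprod hG
  rw [mem_zhat, h.sup] at hx ⊢
  rw [memJ_norm (normG Z hg), memJ_norm (hd.normal_left.norm hg),
    memJ_norm (hd.normal_right.norm hg)]
  exact hx

theorem zhat_normedTI (h : T7Pair M K S Z) : NormedTI (zhat K S) ⊤ Z where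
  nonempty := h.zhat_nonempty hG
  le := le_top
  norm := fun _ hg _ hx => h.zhat_conj hG hx hg
  ti := fun _ _ _ hx hg => h.zhat_ti hG hx (h.sup ▸ (mem_zhat.mp hg).1)

theorem zhat_not_mem_support (h : T7Pair M K S Z) (hx : x ∈ zhat K S) (hL : IsCoatom L) :
    g * x * g⁻¹ ∉ sigmaSupport L := by
  intro h1
  have h2 : x ∈ sigmaSupport (g⁻¹ •ᶜ L) := by
    have := (sigma_supportJ hG hL g⁻¹ _).mpr h1
    simpa [mul_assoc] using this
  obtain ⟨z, hz, hz1, hzx⟩ := h2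
  obtain ⟨k, hk, hk1, s, hs, hs1, -, e, -, -⟩ := h.zhat_decomp hG hx
  have hx1 : x ≠ 1 := fun e => (mem_zhat.mp hx).2.1 (e ▸ K.one_mem)
  have e' : s⁻¹ * x = k := by rw [← e]; group
  rcases sigma_decomposition_dichotomy hG hx1 with h3 | h3
  · refine h3.2 ⟨s, hs1, M, ⟨h.max, h.S_le_sigma hs⟩, ?_⟩
    rw [e']
    exact ⟨⟨pHall_sub h.hall hk, mem_cent1.mpr ((h.dprod hG).comm hk hs)⟩, hk1,
      mem_p_elt (pHall_pgroup h.hall) hk⟩
  · exact h3.2 ⟨z, Msigma_ell1 ((mmaxJ g⁻¹).mpr hL) hz hz1, hzx⟩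

end T7Pair

end Cfsg.Lib.FT
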